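import Cfsg.Agent.H720.RowSix
import Cfsg.Agent.H467.OddNormRow

/-!
# S3855: `E₆(q)`, `²E₆(q)`, `p ∣ Φ₅(± q)`, `Φ₉(± q)` : cyclic Sylow subgroups (helper86; from helper720's `RowSix.main'`)
-/

set_option autoImplicit false
set_option linter.unusedSectionVars false

namespace Cfsg.Agent.H86.On

open Cfsg.Agent.H720.RowSix
open CoxeterSystem Cfsg Cfsg.Lie Cfsg.Lie.ChevalleyDatum
open Cfsg.Agent.ChevalleyStructure Cfsg.Agent.ChevalleyStructure.Elts Cfsg.Agent.ChevalleyStructure.CoxeterGeom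
  Cfsg.Agent.ChevalleyStructure.CoxeterGeomTypes Cfsg.Agent.ChevalleyStructure.NPerm
open Cfsg.Agent.Tits.Roots Cfsg.Agent.Tits.Core Cfsg.Agent.Nodes Cfsg.Agent.Nodes.Reps Cfsg.Agent.Nodes.BNOf
  Cfsg.Agent.Nodes.RGDChev Cfsg.Agent.Nodes.Bruhat Cfsg.Agent.Nodes.SubComb Cfsg.Agent.Nodes.Coroot
open Cfsg.Agent.KFacts.RgdField Cfsg.Agent.KFacts.RgdChevCoord Cfsg.Agent.BpExc.TorCent Cfsg.Agent.BpExc.TorChev
open Cfsg.Agent.GpExc.Field Cfsg.Agent.BpExc.Tow Cfsg.Agent.BpExc.TowChev Cfsg.Agent.BpExc.Fr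
  Cfsg.Agent.BpExc.LangFr Cfsg.Agent.LangThm Cfsg.Agent.BpExc Cfsg.Agent.H129.TorusChar Cfsg.Agent.H129.TorusCent
  Cfsg.Agent.H129.TorusTw Cfsg.Agent.H129.TorusMain Cfsg.Agent.H720.TorusReal
  Cfsg.Agent.H722.RealP Cfsg.Agent.H720.RealTw Cfsg.Agent.H130.WeylCk Cfsg.Agent.H130.WeylTab
  Cfsg.Agent.H720.RowsNeg Cfsg.Agent.H720.Functional


universe u

/-- an element generating a Sylow subgroup -/
theorem row_of_gen {S : Type*} [Group S] [Finite S] {p : ℕ} [hp : Fact p.Prime] {x : S}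
    (hx : orderOf x = p ^ (Nat.card S).factorization p) : Cfsg.Agent.H467.OddNorm.Row p S := by
  have hc : Nat.card ↥(Subgroup.zpowers x) = p ^ (Nat.card S).factorization p := by rw [Nat.card_zpowers, hx]
  refine Cfsg.Agent.H467.OddNorm.Row.cyclic_of (Sylow.ofCard (Subgroup.zpowers x) hc) ?_
  show IsCyclic ↥(Subgroup.zpowers x)
  infer_instance

section Main

variable (hp : IsType chevE6 6 CoxeterMatrix.E₆) {k : Type u} [Field k]
  {W : Type*} [Group W] (cs : CoxeterSystem CoxeterMatrix.E₆ W) {p e : ℕ} [Fact p.Prime] [CharP k p]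
  {σ : MulAut ↥(chevE6.group k)} {g : (Fin 6 → ℤ) ≃+ (Fin 6 → ℤ)}
  [IsAlgClosed k] [Finite W] (hk : LocFin k) (he : 0 < e) (hσ : IsFrob p e σ)
  (F : Fr cs hp.isCartan (TT chevE6 k) (XX chevE6 6 k) σ g) (hN : NSys CoxeterMatrix.E₆ (TT chevE6 k) (nc hp k))
  {G0 : Type*} [Group G0] [Finite G0] {e0 : G0 →* ↥(chevE6.group k)} (he0 : Function.Injective e0)
  (hfix : ∀ x, σ (e0 x) = e0 x) {m : ℕ} (hm : Odd m) {ε : ℤ} (hε : ε * ε = 1)
  (hgv : ∀ w : W, ∃ v : W, ∀ x, theta hp cs w g x = ε • rep cs hp.isCartan v x)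
  (hvg : ∀ v : W, ∃ w : W, ∀ x, theta hp cs w g x = ε • rep cs hp.isCartan v x)
  (hdesc : ∀ y : ↥(chevE6.group k), σ y = y → y ^ m ∈ e0.range)


include hk he hσ F hN he0 hε hvg hdesc in
/-- **the cases `d = 5, 9`: an element generating a Sylow subgroup** -/
theorem exists_gen {s : ℕ} (hs : s.Prime) (hsp : s ≠ p) (hms : m.Coprime s)
    (hcard : (Nat.card G0 : ℤ) ∣ ((p ^ e : ℕ) : ℤ) ^ 36 * (degs6.map (fun i => (ε * (p ^ e : ℕ)) ^ i - 1)).prod)
    (h59 : orderOf (((ε * (p ^ e : ℕ) : ℤ)) : ZMod s) = 5 ∨ orderOf (((ε * (p ^ e : ℕ) : ℤ)) : ZMod s) = 9) :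
    ∃ x : G0, orderOf x = s ^ (Nat.card G0).factorization s := by
  have hsf : Fact s.Prime := ⟨hs⟩
  set Q : ℤ := ε * (p ^ e : ℕ) with hQdef
  set d := orderOf ((Q : ℤ) : ZMod s) with hd
  have hsi : Prime (s : ℤ) := Nat.prime_iff_prime_int.1 hs
  have hpe : ¬ (s : ℤ) ∣ ((p ^ e : ℕ) : ℤ) := by
    intro h
    have h1 : s ∣ p ^ e := by exact_mod_cast h
    exact hsp ((Nat.prime_dvd_prime_iff_eq hs Fact.out).1 (hs.dvd_of_dvd_pow h1))
  have hεs : ¬ (s : ℤ) ∣ ε := by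
    intro h
    have h1 := h.mul_right ε
    rw [hε] at h1
    exact hsi.not_isUnit (isUnit_of_dvd_one h1)
  have hQs : ¬ (s : ℤ) ∣ Q := by
    intro h
    rcases hsi.dvd_or_dvd h with h | h
    · exact hεs h
    · exact hpe h
  have hdvd : ∀ i : ℕ, (s : ℤ) ∣ Q ^ i - 1 ↔ d ∣ i := fun i => dvd_sub_one_iff i
  have hQd : Q ^ d ≡ 1 [ZMOD s] := by
    have h1 := (hdvd d).2 dvd_rfl
    exact ((Int.modEq_iff_dvd).2 h1).symm
  have hQi : ∀ i : ℕ, ¬ d ∣ i → ¬ (s : ℤ) ∣ Q ^ i - 1 := fun i h1 h2 => h1 ((hdvd i).1 h2)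
  -- the `s`-part
  have hpart : ∀ i₀ ∈ degs6, (∀ i ∈ degs6, i ≠ i₀ → ¬ d ∣ i) →
      ((s ^ (Nat.card G0).factorization s : ℕ) : ℤ) ∣ Q ^ i₀ - 1 := by
    intro i₀ hi₀ hne
    have h1 : ((s ^ (Nat.card G0).factorization s : ℕ) : ℤ) ∣
        ((p ^ e : ℕ) : ℤ) ^ 36 * (degs6.map (fun i => Q ^ i - 1)).prod :=
      (Int.natCast_dvd_natCast.2 (Nat.ordProj_dvd _ _)).trans hcard
    have hco : ∀ a : ℤ, ¬ (s : ℤ) ∣ a → IsCoprime ((s ^ (Nat.card G0).factorization s : ℕ) : ℤ) a := by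
      intro a ha
      rw [Nat.cast_pow]
      exact IsCoprime.pow_left ((Prime.coprime_iff_not_dvd hsi).2 ha)
    have h2 := (hco _ (fun h => hpe (hsi.dvd_of_dvd_pow h))).dvd_of_dvd_mul_left h1
    have key : ∀ T : List ℕ, (∀ i ∈ T, i ∈ degs6) → T.Nodup →
        ((s ^ (Nat.card G0).factorization s : ℕ) : ℤ) ∣ (T.map (fun i => Q ^ i - 1)).prod →
        ((s ^ (Nat.card G0).factorization s : ℕ) : ℤ) ∣ Q ^ i₀ - 1 := by
      intro T
      induction T with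
      | nil =>
        intro _ _ h3
        rw [List.map_nil, List.prod_nil] at h3
        exact h3.trans (one_dvd _)
      | cons a T ih =>
        intro hT hnd h3
        rw [List.map_cons, List.prod_cons] at h3
        have hnd' := List.nodup_cons.1 hnd
        by_cases ha : a = i₀
        · subst ha
          have h4 : ∀ T' : List ℕ, (∀ i ∈ T', i ∈ degs6 ∧ i ≠ a) →
              IsCoprime ((s ^ (Nat.card G0).factorization s : ℕ) : ℤ) (T'.map (fun i => Q ^ i - 1)).prod := by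
            intro T'
            induction T' with
            | nil => intro _; rw [List.map_nil, List.prod_nil]; exact isCoprime_one_right
            | cons b T' ih' =>
              intro hb
              rw [List.map_cons, List.prod_cons]
              have hb0 := hb b (by simp)
              exact (hco _ (hQi b (hne b hb0.1 hb0.2))).mul_right
                (ih' fun i hi => hb i (List.mem_cons_of_mem _ hi))
          exact (h4 T fun i hi => ⟨hT i (List.mem_cons_of_mem _ hi), fun h => hnd'.1 (h ▸ hi)⟩).dvd_of_dvd_mul_right h3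
        · have h4 := hco _ (hQi a (hne a (hT a (by simp)) ha))
          exact ih (fun i hi => hT i (List.mem_cons_of_mem _ hi)) hnd'.2 (h4.dvd_of_dvd_mul_left h3)
    exact key degs6 (fun i hi => hi) (by decide) h2
  have hs0 : s ^ (Nat.card G0).factorization s ≠ 0 := pow_ne_zero _ hs.ne_zero
  have hsp' : (s ^ (Nat.card G0).factorization s).Coprime p :=
    Nat.Coprime.pow_left _ ((Nat.coprime_primes hs Fact.out).2 hsp)
  have hms' : m.Coprime (s ^ (Nat.card G0).factorization s) := hms.pow_right _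
  have hco : ∀ a : ℤ, ¬ (s : ℤ) ∣ a → IsCoprime ((s ^ (Nat.card G0).factorization s : ℕ) : ℤ) a := by
    intro a ha
    rw [Nat.cast_pow]
    exact IsCoprime.pow_left ((Prime.coprime_iff_not_dvd hsi).2 ha)
  rcases h59 with h1 | h1
  ·
    have h5 := hpart 5 (by decide) (by rw [h1]; decide)
    refine cyc_large hp cs hk he hσ F hN he0 hε hvg hdesc hs0 hsp' hms' (L := [0, 2, 3, 4]) (d := 5) (by norm_num)
      ck_five (((Int.modEq_iff_dvd).2 h5).symm) (lam := [0, 0, 0, 0, 1, 0]) (x₀ := [1, 0, 0, 0, 0, 0]) rfl rfl ?_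
    have h2 : ∑ j ∈ Finset.range 5, Q ^ (5 - j) * dot [0, 0, 0, 0, 1, 0]
        (acn alE6 ([0, 2, 3, 4] : List (Fin 6)) (1 * j) [1, 0, 0, 0, 0, 0]) = Q * (Q ^ 1 - 1) := by
      simp only [Finset.sum_range_succ, Finset.sum_range_zero]
      have e0 : dot [0, 0, 0, 0, 1, 0] (acn alE6 ([0, 2, 3, 4] : List (Fin 6)) (1 * 0) [1, 0, 0, 0, 0, 0]) = 0 := by
        decide +kernel
      have e1 : dot [0, 0, 0, 0, 1, 0] (acn alE6 ([0, 2, 3, 4] : List (Fin 6)) (1 * 1) [1, 0, 0, 0, 0, 0]) = 0 := by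
        decide +kernel
      have e2 : dot [0, 0, 0, 0, 1, 0] (acn alE6 ([0, 2, 3, 4] : List (Fin 6)) (1 * 2) [1, 0, 0, 0, 0, 0]) = 0 := by
        decide +kernel
      have e3 : dot [0, 0, 0, 0, 1, 0] (acn alE6 ([0, 2, 3, 4] : List (Fin 6)) (1 * 3) [1, 0, 0, 0, 0, 0]) = 1 := by
        decide +kernel
      have e4 : dot [0, 0, 0, 0, 1, 0] (acn alE6 ([0, 2, 3, 4] : List (Fin 6)) (1 * 4) [1, 0, 0, 0, 0, 0]) = -1 := by
        decide +kernel
      rw [e0, e1, e2, e3, e4]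
      ring
    rw [h2]
    refine hco _ fun h3 => ?_
    rcases hsi.dvd_or_dvd h3 with h4 | h4
    · exact hQs h4
    · exact hQi 1 (by rw [h1]; decide) h4
  ·
    have h5 := hpart 9 (by decide) (by rw [h1]; decide)
    refine cyc_large hp cs hk he hσ F hN he0 hε hvg hdesc hs0 hsp' hms' (L := [3, 1, 0, 2, 3, 2, 4, 5]) (d := 9)
      (by norm_num) ck_nine (((Int.modEq_iff_dvd).2 h5).symm) (lam := [0, 0, 0, 0, 0, 1]) (x₀ := [0, 0, 0, 1, 0, 0])
      rfl rfl ?_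
    have h2 : ∑ j ∈ Finset.range 9, Q ^ (9 - j) * dot [0, 0, 0, 0, 0, 1]
        (acn alE6 ([3, 1, 0, 2, 3, 2, 4, 5] : List (Fin 6)) (1 * j) [0, 0, 0, 1, 0, 0]) = Q * (Q ^ 6 - 1) := by
      have e : ∀ j : Fin 9, dot [0, 0, 0, 0, 0, 1] (acn alE6 ([3, 1, 0, 2, 3, 2, 4, 5] : List (Fin 6)) (1 * j)
          [0, 0, 0, 1, 0, 0]) = ![0, 0, 1, 0, 0, 0, 0, 0, -1] j := by
        decide +kernel
      have e' : ∀ (j : ℕ) (hj : j < 9), dot [0, 0, 0, 0, 0, 1] (acn alE6 ([3, 1, 0, 2, 3, 2, 4, 5] : List (Fin 6)) (1 * j)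
          [0, 0, 0, 1, 0, 0]) = ![0, 0, 1, 0, 0, 0, 0, 0, -1] (⟨j, hj⟩ : Fin 9) := fun j hj => e ⟨j, hj⟩
      simp only [Finset.sum_range_succ, Finset.sum_range_zero]
      rw [e' 0 (by norm_num), e' 1 (by norm_num), e' 2 (by norm_num), e' 3 (by norm_num), e' 4 (by norm_num),
        e' 5 (by norm_num), e' 6 (by norm_num), e' 7 (by norm_num), e' 8 (by norm_num)]
      show 0 + Q ^ (9 - 0) * 0 + Q ^ (9 - 1) * 0 + Q ^ (9 - 2) * 1 + Q ^ (9 - 3) * 0 + Q ^ (9 - 4) * 0 +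
        Q ^ (9 - 5) * 0 + Q ^ (9 - 6) * 0 + Q ^ (9 - 7) * 0 + Q ^ (9 - 8) * (-1) = _
      ring
    rw [h2]
    refine hco _ fun h3 => ?_
    rcases hsi.dvd_or_dvd h3 with h4 | h4
    · exact hQs h4
    · exact hQi 6 (by rw [h1]; decide) h4


end Main

end Cfsg.Agent.H86.On
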