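import Cfsg.Agent.H696.GmnThree
import Cfsg.Agent.H86.On.Real

/-!
# S3855: `E₆` type, `p = 3` (the argument of helper696's `rowS_three`, with the conclusion `Ev`) (helper86)
-/

set_option autoImplicit false
set_option linter.unusedSectionVars false

namespace Cfsg.Agent.H86.On

open CoxeterSystem Subgroup Cfsg Cfsg.Lie Cfsg.Lie.ChevalleyDatum
open Cfsg.Agent.ChevalleyStructure Cfsg.Agent.ChevalleyStructure.Elts Cfsg.Agent.ChevalleyStructure.CoxeterGeom
  Cfsg.Agent.ChevalleyStructure.CoxeterGeomTypes Cfsg.Agent.ChevalleyStructure.NPerm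
open Cfsg.Agent.Tits.Roots Cfsg.Agent.Tits.Core Cfsg.Agent.Nodes Cfsg.Agent.Nodes.Reps Cfsg.Agent.Nodes.BNOf
  Cfsg.Agent.Nodes.RGDChev Cfsg.Agent.Nodes.Bruhat Cfsg.Agent.Nodes.NormalForm
open Cfsg.Agent.KFacts.RgdField Cfsg.Agent.KFacts.RgdChevCoord
open Cfsg.Agent.GpExc.Field (glMap emb coe_emb glMap_xG emb_injective coe_glMap)
open Cfsg.Agent.BpExc Cfsg.Agent.BpExc.TorCent Cfsg.Agent.BpExc.TorChev Cfsg.Agent.BpExc.Tow
open Cfsg.Agent.BpExc.TowChev Cfsg.Agent.BpExc.Fr Cfsg.Agent.BpExc.LangFr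
open Cfsg.Agent.BpExc.FamUntw Cfsg.Agent.BpExc.FamInst Cfsg.Agent.BpExc.FamExt Cfsg.Agent.BpExc.FamField
open Cfsg.Agent.BpExc.RowsUntw
open Cfsg.Agent.H696.GmnToral Cfsg.Agent.H696.GmnUntw Cfsg.Agent.H696.GmnTor Cfsg.Agent.H696.GmnInv
  Cfsg.Agent.H696.GmnNeg Cfsg.Agent.H696.GmnTorSetup Cfsg.Agent.H696.GmnThree Cfsg.Agent.H467.OddNorm
open Cfsg.Agent.H129.TorusChar (cX IsMC cX_root isMC_cX)

universe u v

variable {D : ChevalleyDatum} {l : ℕ} {M : CoxeterMatrix (Fin l)} {k : Type u} [Field k]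
  [IsAlgClosed k] (hk : LocFin k) (r : ℕ) [Fact r.Prime] [CharP k r]

/-- **The row of `E₆` type groups at `p = 3`.** -/
theorem ev_three (hp : IsType chevE6 6 CoxeterMatrix.E₆) {W : Type v} [Group W]
    (cs : CoxeterSystem CoxeterMatrix.E₆ W) (hr3 : r ≠ 3) (hZ : center ↥(chevE6.group k) = ⊥) {S : Type*} [Group S]
    [Finite S] (hZS : center S = ⊥) (hpS : 3 ∣ Nat.card S) {ι : S →* ↥(chevE6.group k)} {v : ↥(chevE6.group k)}
    (H : TorSetup hp hk r cs 3 ι v) : Ev 3 S := by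
  have hfin : Finite W := finite_W hp cs
  have : Fact (Nat.Prime 3) := ⟨Nat.prime_three⟩
  have : NeZero ((3 : ℕ) : k) := ⟨fun h0 => by
    rw [CharP.cast_eq_zero_iff k r] at h0
    exact hr3 ((Nat.prime_dvd_prime_iff_eq Fact.out Nat.prime_three).1 h0)⟩
  obtain ⟨ζ, hζ⟩ := HasEnoughRootsOfUnity.exists_primitiveRoot k 3
  have hTL : TL (Tj hp (k := k)) = TT chevE6 k := TL_eq hp hk
  have hXL : XL (Xj hp (k := k)) = XX chevE6 6 k := XL_eq hp hk
  have C : Coords cs hp.isCartan (TL (Tj hp (k := k))) (nc hp k) (XL (Xj hp (k := k))) (xc hp) (ch hp) := by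
    rw [hTL, hXL]; exact coordsL hp cs hk r
  -- the tables
  have tC : Tab cs hp.isCartan (cs.wordProd [0, 2]) TC := tab_word cs hp.isCartan cartanE6 wordC
  have tD : Tab cs hp.isCartan (cs.wordProd [5, 4]) TD := tab_word cs hp.isCartan cartanE6 wordD
  have tG : Tab cs hp.isCartan (cs.wordProd [3, 1, 4, 3, 2, 0, 5, 4, 3, 1, 2, 3]) TG :=
    tab_word cs hp.isCartan cartanE6 wordG
  have tS : Tab cs hp.isCartan (cs.wordProd [3, 2, 0, 4, 3, 2, 5, 4, 3]) TS := tab_word cs hp.isCartan cartanE6 wordS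
  set c := cs.wordProd [0, 2] with hcdef
  set d := cs.wordProd [5, 4] with hddef
  set g := cs.wordProd [3, 1, 4, 3, 2, 0, 5, 4, 3, 1, 2, 3] with hgdef
  set w₀ := cs.wordProd [3, 2, 0, 4, 3, 2, 5, 4, 3] with hwdef
  have hc3 : c ^ 3 = 1 := by
    have h1 : c ^ 3 = c * c * c := by simp [pow_succ]
    rw [h1]
    have h2 := (tC.mul tC).mul tC
    rw [TC3] at h2
    exact tab_unique hp cs h2 (tab_id cs hp.isCartan)
  have hg3 : g ^ 3 = 1 := by
    have h1 : g ^ 3 = g * g * g := by simp [pow_succ]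
    rw [h1]
    have h2 := (tG.mul tG).mul tG
    rw [TG3] at h2
    exact tab_unique hp cs h2 (tab_id cs hp.isCartan)
  have hw2 : w₀ * w₀ = 1 := by
    have h2 := tS.mul tS
    rw [TS2] at h2
    exact tab_unique hp cs h2 (tab_id cs hp.isCartan)
  have hgc : g * c * g⁻¹ = d := by
    have h1 : g * c = d * g := by
      have h2 := tG.mul tC
      have h3 := tD.mul tG
      rw [TGC] at h2
      exact tab_unique hp cs h2 h3
    rw [h1, mul_inv_cancel_right]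
  have hcd : Commute c (g * c * g⁻¹) := by
    rw [hgc]
    have h2 := tC.mul tD
    have h3 := tD.mul tC
    rw [TCD] at h2
    exact tab_unique hp cs h2 h3
  obtain ⟨P, hP, hcP, hgP⟩ := exists_wreath hc3 hg3 hcd
  obtain ⟨X, hX, hXt, hXl⟩ := exists_pgroup hp hk r cs H hP
  obtain ⟨Q, hQ⟩ := hX.exists_le_sylow
  refine ev_of_central_real (by norm_num) hZS hpS Q fun z _ hz hcen => ?_
  -- `z` lies in the torus
  set z' := v⁻¹ * ι z * v with hz'
  have hcomm : ∀ s ∈ X, (v⁻¹ * ι s * v) * z' = z' * (v⁻¹ * ι s * v) := by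
    intro s hs
    have h1 := congrArg ι (hcen s (hQ hs))
    rw [map_mul, map_mul] at h1
    rw [hz']
    calc v⁻¹ * ι s * v * (v⁻¹ * ι z * v) = v⁻¹ * (ι s * ι z) * v := by group
      _ = v⁻¹ * (ι z * ι s) * v := by rw [h1]
      _ = _ := by group
  have hζ0 : ζ ≠ 0 := hζ.ne_zero (by norm_num)
  have hdm : DistMod hp cs 3 := by
    intro a b ha hb hab
    obtain ⟨s, hs, rfl⟩ := (isRoot_iff hp cs a).1 ha
    obtain ⟨t, ht, rfl⟩ := (isRoot_iff hp cs b).1 hb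
    rw [nroots_E6] at hs ht
    have := dist_table ⟨s, hs⟩ ⟨t, ht⟩ (by rw [← cartanE6]; exact hab)
    have h2 : s = t := congrArg Fin.val this
    rw [h2]
  have hzT : z' ∈ TT chevE6 k := by
    refine cent_hc hp hk r cs Nat.prime_three hζ hdm fun j => ?_
    obtain ⟨s, hs⟩ := H.tors j ζ hζ.pow_eq_one
    have e : v⁻¹ * ι s * v = hc hp j ζ := by rw [hs]; group
    have hs3 : s ^ 3 = 1 := by
      apply H.inj
      rw [map_pow, hs, conj_pow, map_one]
      have h1 : (hc hp j ζ : ↥(chevE6.group k)) ^ 3 = 1 := by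
        refine eq_one_TT hp cs hk r hZ (pow_mem (hc_mem hp j hζ0) 3) fun a ha => ?_
        rw [ch_pow hp cs hk r ha (hc_mem hp j hζ0), ch_hc' hp hk r cs hζ0 j ha, ← zpow_natCast, ← zpow_mul, mul_comm,
          zpow_mul, zpow_natCast, hζ.pow_eq_one, one_zpow]
      rw [h1]; group
    have h2 := hcomm s (hXt s (by rw [e]; exact hc_mem hp j hζ0) hs3)
    rw [e] at h2
    exact h2.symm
  have hz3 : z' ^ 3 = 1 := by
    have h1 : z' ^ 3 = v⁻¹ * ι z ^ 3 * v := by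
      have := (conj_pow (i := 3) (a := v⁻¹) (b := ι z))
      rw [inv_inv] at this
      exact this
    rw [h1, ← map_pow, hz, map_one]; group
  have hφ : IsMC (cX hp z') := isMC_cX hp hzT
  have hφ3 : ∀ x, cX hp z' x ^ 3 = 1 := fun x => by
    rw [← H129.TorusChar.cX_pow hp hzT, hz3, H129.TorusChar.cX_one]
  have hinv : ∀ w ∈ P, ∀ x, cX hp z' (rep cs hp.isCartan w x) = cX hp z' x := by
    intro w hw
    obtain ⟨s, hs, hn⟩ := hXl w hw
    refine IsMC.ext (hφ.comp (rep cs hp.isCartan w).toAddMonoidHom) hφ fun i => ?_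
    have hi := isRoot_sr cs hp.isCartan i
    show cX hp z' (rep cs hp.isCartan w (sr i)) = _
    rw [cX_root hp cs hzT (hi.act w), cX_root hp cs hzT hi]
    have h1 := C.chi_rp _ hn hi (t := z') (by rw [hTL]; exact hzT)
    have h2 : v⁻¹ * ι s * v * z' * (v⁻¹ * ι s * v)⁻¹ = z' := by rw [hcomm s hs, mul_inv_cancel_right]
    rwa [h2] at h1
  have hone : ∀ i : Fin 6, i ≠ 3 → cX hp z' (sr i) = 1 := by
    have key : ∀ (i : Fin 6) (a b y : Fin 6 → ℤ), (∀ m, (Pi.single i 1 : Fin 6 → ℤ) m =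
        ((∑ j, a j * TC j m) - a m) + ((∑ j, b j * TG j m) - b m) + 3 * y m) → cX hp z' (sr i) = 1 := by
      intro i a b y hy
      refine phi_sr hφ (hinv c hcP) (hinv g hgP) hφ3 (a := a) (b := b) (y := y) ?_
      rw [tC.apply, tG.apply]
      funext m
      simp only [Pi.add_apply, Pi.sub_apply, nsmul_eq_mul, Nat.cast_ofNat]
      exact hy m
    intro i hi
    fin_cases i
    · exact key 0 ![0, 0, 1, -1, 0, 0] ![0, 0, 0, 0, 0, 0] ![1, 0, 1, 0, 0, 0] (by decide +kernel)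
    · exact key 1 ![0, 0, 1, -1, 0, 0] ![0, -1, 0, 0, 0, 0] ![1, 0, 1, 0, 0, 0] (by decide +kernel)
    · exact key 2 ![-1, 0, 0, -1, 0, 0] ![0, 0, 0, 0, 0, 0] ![0, 0, 1, 0, 0, 0] (by decide +kernel)
    · exact absurd rfl hi
    · exact key 4 ![-1, 0, 0, -1, 0, 0] ![0, 0, 1, 0, 0, 0] ![0, 0, 1, 0, 0, 0] (by decide +kernel)
    · exact key 5 ![0, 0, 1, -1, 0, 0] ![1, 0, 0, 0, 0, 0] ![1, 0, 1, 0, 0, 0] (by decide +kernel)
  have hval : ∀ x : Fin 6 → ℤ, cX hp z' x = cX hp z' (sr 3) ^ x 3 := by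
    intro x
    rw [hφ.eq_prod x, Finset.prod_eq_single 3]
    · intro j _ hj
      rw [hone j hj, one_zpow]
    · intro h; exact absurd (Finset.mem_univ _) h
  -- the inverting element
  obtain ⟨s, hs⟩ := H.lift w₀
  have hnz : (v⁻¹ * ι s * v) * z' * (v⁻¹ * ι s * v)⁻¹ ∈ TT chevE6 k := by
    have := (Subgroup.mem_normalizer_iff.1 hs.mem_normalizer z').1 (by rw [hTL]; exact hzT)
    rwa [hTL] at this
  have hneg : (v⁻¹ * ι s * v) * z' * (v⁻¹ * ι s * v)⁻¹ = z'⁻¹ := by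
    refine ext_TT hp cs hk r hZ hnz (inv_mem hzT) fun a ha => ?_
    have h1 := C.chi_rp _ hs (ha.act w₀) (t := z') (by rw [hTL]; exact hzT)
    rw [← rep_mul_apply, hw2, map_one, Module.End.one_apply] at h1
    rw [h1, ch_inv hp cs hk r ha hzT, ← cX_root hp cs hzT (ha.act w₀), ← cX_root hp cs hzT ha]
    have h2 : ∀ x : Fin 6 → ℤ, cX hp z' (rep cs hp.isCartan w₀ x) = cX hp z' (-x) := by
      refine IsMC.ext (hφ.comp (rep cs hp.isCartan w₀).toAddMonoidHom) (hφ.comp (-AddMonoidHom.id _)) fun i => ?_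
      show cX hp z' (rep cs hp.isCartan w₀ (sr i)) = cX hp z' (-(sr i))
      rw [hval (rep cs hp.isCartan w₀ (sr i)), hval (-(sr i)), tS i]
      have h3 : cX hp z' (sr 3) ^ (3 : ℤ) = 1 := by exact_mod_cast hφ3 (sr 3)
      have h4 : ∀ i : Fin 6, (3 : ℤ) ∣ TS i 3 - (-(Pi.single i 1 : Fin 6 → ℤ)) 3 := by decide +kernel
      obtain ⟨n, hn⟩ := h4 i
      have h5 : TS i 3 = 3 * n + (-(sr i : Fin 6 → ℤ)) 3 := by
        have : (sr i : Fin 6 → ℤ) = Pi.single i 1 := rfl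
        rw [this]; linarith
      rw [h5, zpow_add₀ (hφ.ne_zero _), zpow_mul, h3, one_zpow, one_mul]
    rw [h2, hφ.neg]
  rw [isConj_iff]
  refine ⟨s, H.inj ?_⟩
  rw [map_mul, map_mul, map_inv, map_inv]
  calc ι s * ι z * (ι s)⁻¹ = v * ((v⁻¹ * ι s * v) * z' * (v⁻¹ * ι s * v)⁻¹) * v⁻¹ := by rw [hz']; group
    _ = v * z'⁻¹ * v⁻¹ := by rw [hneg]
    _ = _ := by rw [hz']; group


end Cfsg.Agent.H86.On
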