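import Cfsg.Agent.H952.On.Table
import Cfsg.Agent.H696.GmnTwE6
import Cfsg.Agent.H720.RowsSix
import Cfsg.Agent.H86.On.Setup
import Cfsg.Agent.H86.On.Three
import Cfsg.Agent.H86.On.TE6Cyc

/-!
# S3855: the row `ON-TE6-a` : `²E₆(q)`, `-q` not of order three modulo `p` (helper86)
-/

set_option autoImplicit false
set_option linter.unusedSectionVars false

namespace Cfsg.Agent.H86.On

open CoxeterSystem Subgroup Cfsg Cfsg.Lie Cfsg.Lie.ChevalleyDatum
open Cfsg.Agent.ChevalleyStructure Cfsg.Agent.ChevalleyStructure.Elts Cfsg.Agent.ChevalleyStructure.CoxeterGeom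
  Cfsg.Agent.ChevalleyStructure.CoxeterGeomTypes Cfsg.Agent.ChevalleyStructure.NPerm
open Cfsg.Agent.Tits.Roots Cfsg.Agent.Tits.Core Cfsg.Agent.Nodes Cfsg.Agent.Nodes.Reps Cfsg.Agent.Nodes.BNOf
  Cfsg.Agent.Nodes.RGDChev Cfsg.Agent.Nodes.Bruhat
open Cfsg.Agent.KFacts.RgdField Cfsg.Agent.KFacts.RgdChevCoord
open Cfsg.Agent.BpExc Cfsg.Agent.BpExc.TorCent Cfsg.Agent.BpExc.TorChev Cfsg.Agent.BpExc.Tow
open Cfsg.Agent.BpExc.TowChev Cfsg.Agent.BpExc.Fr Cfsg.Agent.BpExc.LangFr Cfsg.Agent.BpExc.RowsUntw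
open Cfsg.Agent.H696.GmnToral Cfsg.Agent.H696.GmnUntw Cfsg.Agent.H696.GmnInv Cfsg.Agent.H696.GmnTor
  Cfsg.Agent.H696.GmnNeg Cfsg.Agent.H696.GmnTorSetup Cfsg.Agent.H696.GmnThree Cfsg.Agent.H696.GmnTwE6
  Cfsg.Agent.H720.TwFr Cfsg.Agent.H720.RowSix Cfsg.Agent.H720.RowsSix Cfsg.Agent.H720.RowsNeg
  Cfsg.Agent.H467.OddNorm Cfsg.Agent.H129.TorusChar Cfsg.Agent.H720.RealTw
  Cfsg.Agent.H720.TorusReal Cfsg.Agent.H130.WeylCk Cfsg.Agent.H130.WeylTab Cfsg.Agent.H720.Functional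

/-- iteration of a power map -/
theorem isConj_iter {G : Type*} [Group G] {p : ℕ} {m : ℤ} (h : ∀ z : G, z ^ p = 1 → IsConj z (z ^ m)) (i : ℕ) {z : G}
    (hz : z ^ p = 1) : IsConj z (z ^ (m ^ i)) := by
  induction i with
  | zero => rw [pow_zero, zpow_one]
  | succ i ih =>
    have h1 : (z ^ (m ^ i)) ^ p = 1 := by
      rw [← zpow_natCast, ← zpow_mul, mul_comm, zpow_mul, zpow_natCast, hz, one_zpow]
    have h2 := ih.trans (h _ h1)
    rwa [← zpow_mul, ← pow_succ] at h2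

section

variable {K : Type} [Field K] [Fintype K] {q p : ℕ} [hpp : Fact p.Prime]

/-- `p` divides the order: the order of `-q` modulo `p` divides a degree -/
theorem exists_deg (hq : IsPrimePow q) (hK : Fintype.card K = q ^ 2) (hpq : ¬ p ∣ q)
    (hd : p ∣ Nat.card ↥(twistedE6 K q)) : ∃ i ∈ degs6, orderOf (-(q : ZMod p)) ∣ i := by
  have hcard := Cfsg.Agent.S1066.result hq hK
  have hq1 : 1 < q := hq.one_lt
  have hsi : Prime (p : ℤ) := Nat.prime_iff_prime_int.1 hpp.out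
  have h3 : Nat.card ↥(twistedE6 K q) ∣ q ^ 36 * ((q ^ 2 - 1) * (q ^ 5 + 1) * (q ^ 6 - 1) *
      (q ^ 8 - 1) * (q ^ 9 + 1) * (q ^ 12 - 1)) := by
    refine (Dvd.intro_left _ hcard).trans (dvd_of_eq ?_)
    ring
  have h1 : ∀ i : ℕ, ((q : ℕ) : ℤ) ^ i - 1 = ((q ^ i - 1 : ℕ) : ℤ) := by
    intro i
    rw [Nat.cast_sub (Nat.one_le_pow _ _ (by omega))]
    push_cast
    ring
  have h4 : (p : ℤ) ∣ ((q : ℕ) : ℤ) ^ 36 * (degs6.map (fun i => (-(q : ℤ)) ^ i - 1)).prod := by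
    have h2 : (degs6.map (fun i => (-(q : ℤ)) ^ i - 1)).prod =
        ((q : ℤ) ^ 2 - 1) * ((q : ℤ) ^ 5 + 1) * ((q : ℤ) ^ 6 - 1) * ((q : ℤ) ^ 8 - 1) * ((q : ℤ) ^ 9 + 1) *
        ((q : ℤ) ^ 12 - 1) := by
      simp only [degs6, List.map_cons, List.map_nil, List.prod_cons, List.prod_nil]
      ring
    rw [h2, h1, h1, h1, h1]
    exact_mod_cast hd.trans h3
  rcases hsi.dvd_or_dvd h4 with h2 | h2
  · exfalso
    have h5 := hsi.dvd_of_dvd_pow h2
    exact hpq (by exact_mod_cast h5)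
  · obtain ⟨a, ha, h3⟩ := (Prime.dvd_prod_iff hsi).1 h2
    obtain ⟨i, hi, rfl⟩ := List.mem_map.1 ha
    refine ⟨i, hi, ?_⟩
    have h5 := (dvd_sub_one_iff (s := p) (Q := -(q : ℤ)) i).1 h3
    have e1 : ((-(q : ℤ) : ℤ) : ZMod p) = -(q : ZMod p) := by push_cast; ring
    rwa [e1] at h5

/-- **the row** -/
theorem te6_a (hp2 : p ≠ 2) (hq : IsPrimePow q) (hK : Fintype.card K = q ^ 2) (hF : (p : K) ≠ 0)
    (h3 : orderOf (-(q : ZMod p)) ≠ 3) (hd : p ∣ Nat.card ↥(Lie.twistedE6 K q)) : Row p ↥(Lie.twistedE6 K q) := by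
  classical
  obtain ⟨r, n, hr, hn0, hn⟩ := (isPrimePow_nat_iff _).1 hq
  have hrF : Fact r.Prime := ⟨hr⟩
  have hcp : CharP K r := by
    obtain ⟨r', hr'⟩ := CharP.exists K
    have hrp' : r'.Prime := CharP.char_is_prime K r'
    obtain ⟨m, -, hm⟩ := FiniteField.card K r'
    have h1 : r ∣ r' ^ (m : ℕ) := by
      rw [← hm, hK, ← hn, ← pow_mul]
      exact dvd_pow_self r (by positivity)
    have h2 := (Nat.prime_dvd_prime_iff_eq hr hrp').1 (hr.dvd_of_dvd_pow h1)
    rw [h2]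
    exact hr'
  have hpr : p ≠ r := by
    rintro rfl
    exact hF (CharP.cast_eq_zero K p)
  have hpq : ¬ p ∣ q := by
    intro h
    rw [← hn] at h
    exact hpr ((Nat.prime_dvd_prime_iff_eq hpp.out hr).1 (hpp.out.dvd_of_dvd_pow h))
  have hsimple : IsSimpleGroup ↥(twistedE6 K q) ∧ ¬ IsMulCommutative ↥(twistedE6 K q) :=
    Cfsg.Agent.S1070.result hq hK
  have hZ := center_eq_bot_of_simple hsimple
  obtain ⟨i, hi, hdi⟩ := exists_deg hq hK hpq hd
  set d := orderOf (-(q : ZMod p)) with hdd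
  have hd0 : 0 < d := by
    rcases Nat.eq_zero_or_pos d with h0 | h0
    · rw [h0] at hdi
      have h2 := Nat.eq_zero_of_zero_dvd hdi
      have h3 := (degs6_le i hi).1
      omega
    · exact h0
  have hgcd : Nat.gcd 3 (q + 1) ∣ 3 := Nat.gcd_dvd_left _ _
  have hgo : Odd (Nat.gcd 3 (q + 1)) := Odd.of_dvd_nat (by decide) hgcd
  rcases Nat.even_or_odd d with hev | hodd
  · -- all elements of order `p` are real
    obtain ⟨c, hc⟩ := hev
    have hc0 : 0 < c := by omega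
    have h1 : (-(q : ZMod p)) ^ c * (-(q : ZMod p)) ^ c = 1 := by
      rw [← pow_add, ← hc, hdd, pow_orderOf_eq_one]
    have h2 : (-(q : ZMod p)) ^ c = -1 := by
      rcases mul_self_eq_one_iff.1 h1 with h3 | h3
      · exfalso
        have h4 := orderOf_dvd_of_pow_eq_one h3
        rw [← hdd] at h4
        exact absurd (Nat.le_of_dvd hc0 h4) (by omega)
      · exact h3
    refine Row.ev (Ev.of_real hp2 hZ hd fun z hz _ => ?_)
    have hzp : z ^ p = 1 := by rw [← hz, pow_orderOf_eq_one]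
    have h4 := isConj_iter (p := p) (m := (-(q : ℤ)) ^ Nat.gcd 3 (q + 1))
      (fun z hz => isConj_tw (p := p) hpr hn0 hn.symm hK hz) c hzp
    have h5 : (p : ℤ) ∣ ((-(q : ℤ)) ^ Nat.gcd 3 (q + 1)) ^ c + 1 := by
      rw [← ZMod.intCast_zmod_eq_zero_iff_dvd]
      push_cast
      rw [← pow_mul, mul_comm, pow_mul, h2, hgo.neg_one_pow]
      ring
    obtain ⟨a, ha⟩ := h5
    have h6 : z ^ (((-(q : ℤ)) ^ Nat.gcd 3 (q + 1)) ^ c) = z⁻¹ := by
      have e : ((-(q : ℤ)) ^ Nat.gcd 3 (q + 1)) ^ c = (p : ℤ) * a + (-1) := by linarith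
      rw [e, zpow_add, zpow_mul, zpow_natCast, hzp, one_zpow, one_mul, zpow_neg_one]
    rw [h6] at h4
    exact isConj_iff.1 h4
  · have hcases : d = 1 ∨ d = 3 ∨ d = 5 ∨ d = 9 := by
      have hle : d ≤ 12 := (Nat.le_of_dvd (degs6_le i hi).1 hdi).trans (degs6_le i hi).2
      simp only [degs6, List.mem_cons, List.not_mem_nil, or_false] at hi
      rcases hi with rfl | rfl | rfl | rfl | rfl | rfl <;>
        (clear_value d; interval_cases d <;> first | omega | (exfalso; revert hdi; decide) | (exfalso; revert hodd; decide))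
    have h59 : (d = 5 ∨ d = 9) → Row p ↥(twistedE6 K q) := by
      intro h59
      refine te6_cyc hq hK ?_ hpq h59
      rintro rfl
      have h1 : (-(q : ZMod 3)) ^ 2 = 1 := by
        have h2 : (-(q : ZMod 3)) ≠ 0 := by
          rw [neg_ne_zero]
          intro h3
          exact hpq ((ZMod.natCast_eq_zero_iff q 3).1 h3)
        exact ZMod.pow_card_sub_one_eq_one h2
      have h2 := orderOf_dvd_of_pow_eq_one h1
      rw [← hdd] at h2
      have := Nat.le_of_dvd (by norm_num) h2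
      omega
    rcases hcases with h1 | h1 | h1 | h1
    · -- `p ∣ q + 1`
      have hpq1 : p ∣ q + 1 := by
        have h2 : -(q : ZMod p) = 1 := orderOf_eq_one_iff.1 (hdd ▸ h1)
        rw [← ZMod.natCast_eq_zero_iff]
        push_cast
        linear_combination -h2
      obtain ⟨f⟩ := exists_emb r K
      have cs := CoxeterMatrix.E₆.toCoxeterSystem
      have hk : LocFin (AlgebraicClosure (ZMod r)) := locFin_of_isAlgebraic r _
      obtain ⟨v, H⟩ := setup (p := p) f hn0 hn.symm hK hpq1 cs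
      have hfW : Finite CoxeterMatrix.E₆.Group := finite_W hp6 cs
      have hk0 : ((p : ℕ) : AlgebraicClosure (ZMod r)) ≠ 0 := by
        rw [Ne, CharP.cast_eq_zero_iff _ r]
        intro h
        exact hpr ((Nat.prime_dvd_prime_iff_eq hr hpp.out).1 h).symm
      have hne : NeZero ((p : ℕ) : AlgebraicClosure (ZMod r)) := ⟨hk0⟩
      obtain ⟨ζ, hζ⟩ := HasEnoughRootsOfUnity.exists_primitiveRoot (AlgebraicClosure (ZMod r)) p
      by_cases hp3 : p = 3
      · subst hp3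
        exact Row.ev (ev_three hk r hp6 cs (Ne.symm hpr) (center_eq_bot_of_simple (S1054.result chevE6 (by simp)))
          hZ hd H)
      have hcW : Nat.card CoxeterMatrix.E₆.Group = 51840 :=
        ChevalleyStructure.WeylData.certE6.card_group.trans ChevalleyStructure.WeylData.size_E6
      by_cases hp5 : p = 5
      · subst hp5
        refine Row.ev (ev_of_setup hp6 hk r cs hp2 hζ hZ 0 H ?_)
        intro j hj _ htors E' h1 h2 h3 h4
        refine H142.GmnFive.EE_unique hp6 hk r cs hj Cfsg.Agent.BpExc.FamInst.inv_E6 (by norm_num) hζ ?_ htors h1 h2 h3 h4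
        rw [hcW]
        norm_num
      · refine Row.ev (ev_of_setup hp6 hk r cs hp2 hζ hZ 0 H ?_)
        intro j hj _ htors E' h1 h2 h3 h4
        refine unique_large hp6 hk r cs hpr ?_ hζ Cfsg.Agent.BpExc.FamInst.inv_E6 ?_ j hj htors h1 h2 h3 h4
        · rw [hcW]
          intro h5
          have h6 : p ∣ 2 ^ 7 * 3 ^ 4 * 5 := by
            have : 51840 = 2 ^ 7 * 3 ^ 4 * 5 := by norm_num
            rwa [this] at h5
          rcases (Nat.Prime.dvd_mul hpp.out).1 h6 with h6 | h6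
          · rcases (Nat.Prime.dvd_mul hpp.out).1 h6 with h7 | h7
            · exact hp2 ((Nat.prime_dvd_prime_iff_eq hpp.out Nat.prime_two).1 (hpp.out.dvd_of_dvd_pow h7))
            · exact hp3 ((Nat.prime_dvd_prime_iff_eq hpp.out Nat.prime_three).1 (hpp.out.dvd_of_dvd_pow h7))
          · exact hp5 ((Nat.prime_dvd_prime_iff_eq hpp.out Nat.prime_five).1 h6)
        · exact (Nat.coprime_primes hpp.out Nat.prime_three).2 hp3
    · exact absurd h1 h3
    · exact h59 (Or.inl h1)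
    · exact h59 (Or.inr h1)

end

end Cfsg.Agent.H86.On
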